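import Groth.Agent.H8Props.AmpleSpread.Stage
import Groth.Agent.H17.ConsPairExists
import Groth.Agent.S0052
import Mathlib.RingTheory.Jacobson.Ring

/-!
# Ampleness on a proper scheme over a field descends along field extensions
-/

set_option autoImplicit false
set_option linter.style.haveILetI false
universe u

open CategoryTheory CategoryTheory.Limits AlgebraicGeometry

namespace Groth.Agent.H8Props.AmpleSpread

theorem isAmple_of_fieldExt {k K : Type u} [Field k] [Field K] [Algebra k K] {X : Scheme.{u}}
    (p : X ⟶ Spec (CommRingCat.of k)) [IsProper p] {L : X.Modules} (hL : PicF.IsInvertible L)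
    {XK : Scheme.{u}} {q : XK ⟶ X} {pK : XK ⟶ Spec (CommRingCat.of K)}
    (hc : IsPullback q pK p (Spec.map (CommRingCat.ofHom (algebraMap k K))))
    (h : CohB1.IsAmple ((Scheme.Modules.pullback q).obj L)) : CohB1.IsAmple L := by
  haveI : Nonempty (Finset K) := ⟨∅⟩
  haveI : ∀ i, CompactSpace ((H17.ConsPair.specSystem k K).obj i) := fun i => inferInstance
  haveI : ∀ i, QuasiSeparatedSpace ((H17.ConsPair.specSystem k K).obj i) := fun i => inferInstance
  obtain ⟨l, φ, hl⟩ := exists_isAmple_of_base (H17.ConsPair.isLimitSpecCone k K) p hL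
    ((H17.ConsPair.specStr k K).app (Opposite.op ∅)) (Spec.map (CommRingCat.ofHom (algebraMap k K)))
    (H17.ConsPair.specCone_str k K (Opposite.op ∅)) (q := q) (pP := pK) hc h
  let sl := (H17.ConsPair.specStr k K).app l
  have hs : (H17.ConsPair.specSystem k K).map φ ≫ (H17.ConsPair.specStr k K).app (Opposite.op ∅) = sl :=
    ((H17.ConsPair.specStr k K).naturality φ).trans (Category.comp_id _)
  rw [hs] at hl
  let A := Algebra.adjoin k ((Opposite.unop l : Finset K) : Set K)
  haveI : Algebra.FiniteType k A := (Subalgebra.fg_iff_finiteType _).1 (Subalgebra.fg_adjoin_finset _)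
  obtain ⟨m, hm⟩ := Ideal.exists_maximal A
  letI : Field (A ⧸ m) := Ideal.Quotient.field m
  haveI : Module.Finite k (A ⧸ m) := finite_of_finite_type_of_isJacobsonRing k _
  let r : Spec (CommRingCat.of (A ⧸ m)) ⟶ (H17.ConsPair.specSystem k K).obj l :=
    Spec.map (CommRingCat.ofHom (Ideal.Quotient.mk m))
  let tk : Spec (CommRingCat.of (A ⧸ m)) ⟶ Spec (CommRingCat.of k) :=
    Spec.map (CommRingCat.ofHom (algebraMap k (A ⧸ m)))
  have hr : r ≫ sl = tk := by
    show Spec.map _ ≫ Spec.map _ = _
    rw [← Spec.map_comp]
    rfl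
  haveI : IsFinite tk := (IsFinite.SpecMap_iff _).2 (RingHom.finite_algebraMap.2 inferInstance)
  haveI : Surjective tk := H17.ConsProp.surjective_of_subsingleton tk
  let g : pullback p tk ⟶ X := pullback.fst p tk
  haveI : IsFinite g := MorphismProperty.pullback_fst _ _ inferInstance
  haveI : Surjective g := MorphismProperty.pullback_fst _ _ inferInstance
  refine (Groth.Agent.S0052.result k p (g ≫ p) g rfl L hL).2 ?_
  have hw : pullback.fst p tk ≫ p = (pullback.snd p tk ≫ r) ≫ sl := by
    rw [Category.assoc, hr, pullback.condition]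
  let u : pullback p tk ⟶ pullback p sl := pullback.lift g (pullback.snd p tk ≫ r) hw
  haveI : IsAffineHom (u ≫ pullback.fst p sl) := by
    rw [pullback.lift_fst]; infer_instance
  haveI : IsSeparated (pullback.fst p sl) := by
    haveI : IsSeparated sl := inferInstance
    exact MorphismProperty.pullback_fst _ _ inferInstance
  haveI : IsAffineHom u := IsAffineHom.of_comp u (pullback.fst p sl)
  have := H11Ample.isAmple_pullback_of_isAffineHom u hl
  rwa [← H11Ample.isAmple_pullback_comp_iff, pullback.lift_fst] at this

end Groth.Agent.H8Props.AmpleSpread
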