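import Groth.Agent.H7Lim.AmpleDescent
import Groth.Agent.H11Ample.AmpleOn
import Groth.Agent.H11Ample.Converse

/-!
# The fibre of a limit of morphisms is the limit of the fibres
-/

set_option autoImplicit false
set_option linter.style.haveILetI false
set_option backward.defeqAttrib.useBackward true
set_option backward.isDefEq.respectTransparency false
universe u

open CategoryTheory CategoryTheory.Limits AlgebraicGeometry

namespace Groth.Agent.H8Props.AmpleSpread

theorem isAffineHom_of_subsingleton {T S : Scheme.{u}} [Subsingleton T] [IsAffine T] (t : T ⟶ S) :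
    IsAffineHom t := by
  refine ⟨fun U _ => ?_⟩
  rcases (t ⁻¹ᵁ U : Set T).eq_empty_or_nonempty with h | h
  · have : t ⁻¹ᵁ U = ⊥ := TopologicalSpace.Opens.ext h
    rw [this]; exact isAffineOpen_bot T
  · have : t ⁻¹ᵁ U = ⊤ := TopologicalSpace.Opens.ext (Set.Nonempty.eq_univ h)
    rw [this]; exact isAffineOpen_top T

variable {I : Type u} [SmallCategory I] {DX DS : I ⥤ Scheme.{u}} (φ : DX ⟶ DS)
  {cX : Cone DX} {cS : Cone DS} {T : Scheme.{u}} (y : T ⟶ cS.pt)

/-- The fibres at the stages. -/
noncomputable def fibDiagram : I ⥤ Scheme.{u} where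
  obj i := pullback (φ.app i) (y ≫ cS.π.app i)
  map {i j} a := pullback.lift (pullback.fst (φ.app i) (y ≫ cS.π.app i) ≫ DX.map a)
    (pullback.snd (φ.app i) (y ≫ cS.π.app i))
    (by rw [Category.assoc, φ.naturality a, pullback.condition_assoc, Category.assoc, cS.w a])
  map_id i := by apply pullback.hom_ext <;> simp
  map_comp a b := by apply pullback.hom_ext <;> simp [pullback.lift_fst, pullback.lift_fst_assoc, pullback.lift_snd]

theorem fibDiagram_map_fst {i j : I} (a : i ⟶ j) :
    (fibDiagram φ y).map a ≫ pullback.fst (φ.app j) (y ≫ cS.π.app j) =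
      pullback.fst (φ.app i) (y ≫ cS.π.app i) ≫ DX.map a := pullback.lift_fst _ _ _

theorem fibDiagram_map_snd {i j : I} (a : i ⟶ j) :
    (fibDiagram φ y).map a ≫ pullback.snd (φ.app j) (y ≫ cS.π.app j) =
      pullback.snd (φ.app i) (y ≫ cS.π.app i) := pullback.lift_snd _ _ _

variable (f : cX.pt ⟶ cS.pt) (w : ∀ i, cX.π.app i ≫ φ.app i = f ≫ cS.π.app i)

/-- The fibre of the limit. -/
@[simps]
noncomputable def fibCone : Cone (fibDiagram φ y) where
  pt := pullback f y
  π :=
  { app i := pullback.lift (pullback.fst f y ≫ cX.π.app i) (pullback.snd f y)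
      (by rw [Category.assoc, w, pullback.condition_assoc])
    naturality i j a := by
      refine (Category.id_comp _).trans ?_
      apply pullback.hom_ext
      · erw [pullback.lift_fst, Category.assoc, fibDiagram_map_fst, pullback.lift_fst_assoc]
        rw [Category.assoc, cX.w a]
      · erw [pullback.lift_snd, Category.assoc, fibDiagram_map_snd, pullback.lift_snd] }

variable [IsCofiltered I]

/-- The fibre of the limit is the limit of the fibres. -/
noncomputable def isLimitFibCone (hX : IsLimit cX) (hS : IsLimit cS) : IsLimit (fibCone φ y f w) := by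
  haveI := IsCofiltered.isConnected I
  have hsnd : ∀ (s : Cone (fibDiagram φ y)) (i j : I),
      s.π.app i ≫ pullback.snd (φ.app i) (y ≫ cS.π.app i) = s.π.app j ≫ pullback.snd (φ.app j) (y ≫ cS.π.app j) := by
    intro s i j
    refine constant_of_preserves_morphisms (fun k => s.π.app k ≫ pullback.snd (φ.app k) (y ≫ cS.π.app k))
      (fun a b g => ?_) i j
    rw [← s.w g, Category.assoc, fibDiagram_map_snd]
  let i₁ : I := Classical.choice IsCofiltered.nonempty
  let sX : Cone (fibDiagram φ y) → Cone DX := fun s =>
    { pt := s.pt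
      π :=
      { app i := s.π.app i ≫ pullback.fst (φ.app i) (y ≫ cS.π.app i)
        naturality i j a := by
          refine (Category.id_comp _).trans ?_
          rw [← s.w a, Category.assoc, Category.assoc]
          erw [fibDiagram_map_fst]
          } }
  refine
    { lift := fun s => pullback.lift (hX.lift (sX s))
        (s.π.app i₁ ≫ pullback.snd (φ.app i₁) (y ≫ cS.π.app i₁)) (hS.hom_ext fun j => ?_)
      fac := fun s i => ?_
      uniq := fun s m hm => ?_ }
  · rw [Category.assoc, ← w, hX.fac_assoc, hsnd s i₁ j]
    simp only [sX, Category.assoc]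
    rw [pullback.condition]
  · apply pullback.hom_ext
    · simp only [fibCone_π_app, Category.assoc, pullback.lift_fst, pullback.lift_fst_assoc, hX.fac]
      rfl
    · simp only [fibCone_π_app, Category.assoc, pullback.lift_snd]
      exact hsnd s i₁ i
  · apply pullback.hom_ext
    · rw [pullback.lift_fst]
      refine hX.uniq (sX s) _ fun j => ?_
      simp only [sX]
      rw [← hm j, fibCone_π_app, Category.assoc, Category.assoc, pullback.lift_fst]
    · rw [pullback.lift_snd, ← hm i₁, fibCone_π_app, Category.assoc, pullback.lift_snd]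

omit [IsCofiltered I] in
theorem isAffineHom_fibDiagram_map [Subsingleton T] [IsAffine T] {i j : I} (a : i ⟶ j)
    [IsAffineHom (DX.map a)] : IsAffineHom ((fibDiagram φ y).map a) := by
  haveI : ∀ k, IsAffineHom (pullback.fst (φ.app k) (y ≫ cS.π.app k)) := fun k =>
    MorphismProperty.pullback_fst _ _ (isAffineHom_of_subsingleton _)
  haveI : IsAffineHom ((fibDiagram φ y).map a ≫ pullback.fst (φ.app j) (y ≫ cS.π.app j)) := by
    rw [fibDiagram_map_fst]
    infer_instance
  exact IsAffineHom.of_comp _ (pullback.fst (φ.app j) (y ≫ cS.π.app j))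

end Groth.Agent.H8Props.AmpleSpread
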