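import Groth.Agent.H8Props.AmpleSpread.FieldDescent
import Groth.Agent.H8Props.AmpleSpread.FibreLimit
import Groth.Agent.H12Pic.InvertibleStage
import Groth.Agent.S2147
import Groth.Agent.S0054
import Groth.Prelude.Def_LCI2

/-!
# Ampleness on a fibre spreads to a neighbourhood for proper morphisms
-/

set_option autoImplicit false
set_option linter.style.haveILetI false
set_option maxHeartbeats 1000000
universe u

open CategoryTheory CategoryTheory.Limits AlgebraicGeometry

namespace Groth.Agent.H8Props.AmpleSpread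

/-- From an ample stage of the fibres to the fibre at a stage. -/
theorem isAmple_fibre_stage {X S T : Scheme.{u}} (f : X ⟶ S) [IsProper f] {L : X.Modules}
    (hL : PicF.IsInvertible L) {K : Type u} [Field K] (e : T ≅ Spec (CommRingCat.of K)) (t : T ⟶ S) (s : S)
    (ρ : S.residueField s ⟶ CommRingCat.of K) (ht : t = e.hom ≫ Spec.map ρ ≫ S.fromSpecResidueField s)
    (h : CohB1.IsAmple ((Scheme.Modules.pullback (pullback.fst f t)).obj L)) :
    CohB1.IsAmple ((Scheme.Modules.pullback (f.fiberι s)).obj L) := by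
  letI : Algebra (S.residueField s) K := ρ.hom.toAlgebra
  haveI : IsProper (f.fiberToSpecResidueField s) := MorphismProperty.pullback_snd _ _ inferInstance
  have hsq : IsPullback (f.fiberι s) (f.fiberToSpecResidueField s) f (S.fromSpecResidueField s) :=
    IsPullback.of_hasPullback _ _
  let u : pullback f t ⟶ f.fiber s := hsq.lift (pullback.fst f t) (pullback.snd f t ≫ e.hom ≫ Spec.map ρ)
    (by rw [pullback.condition, ht, Category.assoc, Category.assoc])
  have hu : u ≫ f.fiberι s = pullback.fst f t := hsq.lift_fst _ _ _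
  have hbig : IsPullback (u ≫ f.fiberι s) (pullback.snd f t ≫ e.hom) f (Spec.map ρ ≫ S.fromSpecResidueField s) := by
    rw [hu]
    refine (IsPullback.of_hasPullback f t).of_iso (Iso.refl _) (Iso.refl _) e (Iso.refl _) ?_ ?_ ?_ ?_
    · simp
    · simp
    · simp
    · simp [ht]
  have hsq' : IsPullback u (pullback.snd f t ≫ e.hom) (f.fiberToSpecResidueField s) (Spec.map ρ) := by
    refine IsPullback.of_right hbig ?_ hsq
    rw [hsq.lift_snd, Category.assoc]
  refine isAmple_of_fieldExt (k := S.residueField s) (K := K) (f.fiberToSpecResidueField s)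
    (H11Ample.isInvertible_pullback _ hL) hsq' ?_
  rw [← H11Ample.isAmple_pullback_comp_iff, hu]
  exact h

/-- The affine case. -/
theorem exists_nhd_affine {X S : Scheme.{u}} [IsAffine S] (f : X ⟶ S) [IsProper f] {L : X.Modules}
    (hL : PicF.IsInvertible L) (s : S) (hs : CohB1.IsAmple ((Scheme.Modules.pullback (f.fiberι s)).obj L)) :
    ∃ V : S.Opens, s ∈ V ∧ IsAffineOpen V ∧ CohB1.IsAmple ((Scheme.Modules.pullback (f ⁻¹ᵁ V).ι).obj L) := by
  obtain ⟨I, _, _, DX, DS, φ, cX, cS, hcX, hcS, eX, eS, haff, hst, hcomp⟩ := Groth.Agent.S2147.result f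
  haveI : ∀ (i j : I) (a : i ⟶ j), IsAffineHom (DX.map a) := fun i j a => (haff i j a).1
  haveI : ∀ {i j : I} (a : i ⟶ j), IsAffineHom (DX.map a) := fun {i j} a => (haff i j a).1
  haveI : ∀ i, IsProper (φ.app i) := fun i => (hst i).1
  haveI : IsNoetherianRing (ULift.{u} ℤ) := isNoetherianRing_of_ringEquiv ℤ ULift.ringEquiv.symm
  haveI hNS : ∀ i, IsNoetherian (DS.obj i) := fun i => by
    haveI := (hst i).2.1
    haveI := (hst i).2.2
    haveI : IsLocallyNoetherian (DS.obj i) :=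
      LocallyOfFiniteType.isLocallyNoetherian (IsTerminal.from specULiftZIsTerminal (DS.obj i))
    exact ⟨⟩
  haveI : ∀ i, CompactSpace (DX.obj i) := fun i => QuasiCompact.compactSpace_of_compactSpace (φ.app i)
  haveI : ∀ i, QuasiSeparatedSpace (DX.obj i) := fun i => quasiSeparatedSpace_of_quasiSeparated (φ.app i)
  -- the line bundle at a stage
  obtain ⟨i₀⟩ : Nonempty I := IsCofiltered.nonempty
  obtain ⟨j, -, L₀, hL₀, ⟨eL⟩⟩ := H12Pic.exists_invertible_stage hcX i₀
    (H11Ample.isInvertible_pullback eX.hom hL)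
  -- the fibres at the stages
  let T : Scheme.{u} := Spec (S.residueField s)
  let y : T ⟶ cS.pt := S.fromSpecResidueField s ≫ eS.inv
  let f' : cX.pt ⟶ cS.pt := eX.hom ≫ f ≫ eS.inv
  have w : ∀ i, cX.π.app i ≫ φ.app i = f' ≫ cS.π.app i := fun i => by
    rw [hcomp i]; simp [f']
  haveI : Subsingleton T := inferInstanceAs (Subsingleton (PrimeSpectrum (S.residueField s)))
  haveI : IsAffine T := inferInstanceAs (IsAffine (Spec _))
  haveI : ∀ {i k : I} (a : i ⟶ k), IsAffineHom ((fibDiagram φ y).map a) := fun {i k} a =>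
    isAffineHom_fibDiagram_map φ y a
  haveI hqc : QuasiCompact (pullback.snd (φ.app j) (y ≫ cS.π.app j)) :=
    MorphismProperty.pullback_snd _ _ (inferInstance : QuasiCompact (φ.app j))
  haveI hqs : QuasiSeparated (pullback.snd (φ.app j) (y ≫ cS.π.app j)) :=
    MorphismProperty.pullback_snd _ _ (inferInstance : QuasiSeparated (φ.app j))
  haveI : CompactSpace ((fibDiagram φ y).obj j) :=
    show CompactSpace ↥(pullback (φ.app j) (y ≫ cS.π.app j)) from
      QuasiCompact.compactSpace_of_compactSpace (pullback.snd (φ.app j) (y ≫ cS.π.app j))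
  haveI : QuasiSeparatedSpace ((fibDiagram φ y).obj j) :=
    show QuasiSeparatedSpace ↥(pullback (φ.app j) (y ≫ cS.π.app j)) from
      quasiSeparatedSpace_of_quasiSeparated (pullback.snd (φ.app j) (y ≫ cS.π.app j))
  have hq : IsPullback (pullback.fst f' y ≫ eX.hom) (pullback.snd f' y) f (S.fromSpecResidueField s) := by
    refine (IsPullback.of_hasPullback f' y).of_iso (Iso.refl _) eX (Iso.refl _) eS ?_ ?_ ?_ ?_
    · simp
    · simp
    · simp [f']
    · simp [y]
  have h1 : CohB1.IsAmple ((Scheme.Modules.pullback ((fibCone φ y f' w).π.app j)).obj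
      ((Scheme.Modules.pullback (pullback.fst (φ.app j) (y ≫ cS.π.app j))).obj L₀)) := by
    have e : (fibCone φ y f' w).π.app j ≫ pullback.fst (φ.app j) (y ≫ cS.π.app j) =
        pullback.fst f' y ≫ cX.π.app j := pullback.lift_fst _ _ _
    refine (H11Ample.isAmple_pullback_comp_iff _ _ _).1 ?_
    rw [e]
    refine (H11Ample.isAmple_pullback_comp_iff _ _ _).2 ?_
    refine H11Ample.isAmple_of_iso ((Scheme.Modules.pullback (pullback.fst f' y)).mapIso eL.symm) ?_
    refine (H11Ample.isAmple_pullback_comp_iff _ _ _).1 ?_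
    exact (isAmple_iff_of_iso (hq.isoPullback) _ (f.fiberι s) hq.isoPullback_hom_fst L).2 hs
  obtain ⟨k, a, hk⟩ := H7Lim.AmpleDescent.exists_isAmple_stage (isLimitFibCone φ y f' w hcX hcS)
    (H11Ample.isInvertible_pullback (pullback.fst (φ.app j) (y ≫ cS.π.app j)) hL₀) h1
  replace hk := (H11Ample.isAmple_pullback_comp_iff _ _ _).1 (H11Ample.isAmple_of_iso
    ((Scheme.Modules.pullbackCongr (fibDiagram_map_fst φ y a)).app L₀)
    ((H11Ample.isAmple_pullback_comp_iff _ _ _).2 hk))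
  -- the point at the stage
  let h : S ⟶ DS.obj k := eS.inv ≫ cS.π.app k
  let Lk := (Scheme.Modules.pullback (DX.map a)).obj L₀
  have hLk : PicF.IsInvertible Lk := H11Ample.isInvertible_pullback _ hL₀
  have h2 : CohB1.IsAmple ((Scheme.Modules.pullback ((φ.app k).fiberι (h s))).obj Lk) :=
    isAmple_fibre_stage (φ.app k) hLk (K := S.residueField s) (Iso.refl _) (y ≫ cS.π.app k) (h s)
      (h.residueFieldMap s)
      (by
        rw [Iso.refl_hom, Category.id_comp, Scheme.Hom.SpecMap_residueFieldMap_fromSpecResidueField]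
        simp [y, h])
      hk
  obtain ⟨V, hV, hVamp⟩ := Groth.Agent.S0054.result (φ.app k) Lk hLk (h s) h2
  obtain ⟨W, hW, hsW, hWV⟩ := exists_isAffineOpen_mem_and_subset (X := DS.obj k) (x := h s) (U := V) hV
  have h3 : CohB1.IsAmple ((Scheme.Modules.pullback (φ.app k ⁻¹ᵁ W).ι).obj Lk) :=
    H11Ample.isAmple_of_iso ((Scheme.Modules.restrictFunctorIsoPullback (φ.app k ⁻¹ᵁ W).ι).app Lk) (hVamp W hWV hW)
  -- back to `X`
  obtain ⟨V₀, hV₀, hsV₀, hV₀W⟩ := exists_isAffineOpen_mem_and_subset (X := S) (x := s) (U := h ⁻¹ᵁ W) hsW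
  refine ⟨V₀, hsV₀, hV₀, ?_⟩
  let g : X ⟶ DX.obj k := eX.inv ≫ cX.π.app k
  haveI : IsAffineHom (cX.π.app k) := isAffineHom_π_app DX cX hcX k
  have hg : g ≫ φ.app k = f ≫ h := by simp [g, h, hcomp k]
  have hle : f ⁻¹ᵁ V₀ ≤ g ⁻¹ᵁ (φ.app k ⁻¹ᵁ W) := by
    rw [← Scheme.Hom.comp_preimage, hg, Scheme.Hom.comp_preimage]
    exact f.preimage_mono hV₀W
  haveI : IsAffineHom g := inferInstanceAs (IsAffineHom (eX.inv ≫ cX.π.app k))
  haveI : IsAffineHom (g ∣_ (φ.app k ⁻¹ᵁ W)) := IsZariskiLocalAtTarget.restrict (P := @IsAffineHom) inferInstance _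
  have h4 := H11Ample.isAmple_pullback_of_isAffineHom (g ∣_ (φ.app k ⁻¹ᵁ W)) h3
  rw [← H11Ample.isAmple_pullback_comp_iff, morphismRestrict_ι] at h4
  haveI : CompactSpace ↥((f ⁻¹ᵁ V₀ : X.Opens) : Scheme.{u}) :=
    isCompact_iff_compactSpace.1 (f.isCompact_preimage hV₀.isCompact)
  have h5 := H8Props.Ample.isAmple_pullback_of_isEmbedding _ (X.homOfLE hle).isOpenEmbedding.isEmbedding h4
  rw [← H11Ample.isAmple_pullback_comp_iff, Scheme.homOfLE_ι_assoc, H11Ample.isAmple_pullback_comp_iff] at h5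
  refine H11Ample.isAmple_of_iso ((Scheme.Modules.pullback (f ⁻¹ᵁ V₀).ι).mapIso ?_) h5
  exact (Scheme.Modules.pullbackCongr (show g = eX.inv ≫ cX.π.app k from rfl)).app Lk ≪≫
    ((Scheme.Modules.pullbackComp eX.inv (cX.π.app k)).app Lk).symm ≪≫
    (Scheme.Modules.pullback eX.inv).mapIso
      (((Scheme.Modules.pullbackComp (cX.π.app k) (DX.map a)).app L₀) ≪≫
        (Scheme.Modules.pullbackCongr (cX.w a)).app L₀ ≪≫ eL) ≪≫
    (Scheme.Modules.pullbackComp eX.inv eX.hom).app L ≪≫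
    (Scheme.Modules.pullbackCongr eX.inv_hom_id).app L ≪≫ (Scheme.Modules.pullbackId X).app L

/-- If an invertible module is ample on a fibre of a proper morphism it is ample near the fibre. -/
theorem exists_nhd {X Y : Scheme.{u}} (f : X ⟶ Y) [IsProper f] {L : X.Modules} (hL : PicF.IsInvertible L)
    (y : Y) (hy : CohB1.IsAmple ((Scheme.Modules.pullback (f.fiberι y)).obj L)) :
    ∃ V : Y.Opens, y ∈ V ∧ IsAffineOpen V ∧ CohB1.IsAmple ((Scheme.Modules.pullback (f ⁻¹ᵁ V).ι).obj L) := by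
  obtain ⟨U, hU, hyU, -⟩ := exists_isAffineOpen_mem_and_subset (X := Y) (x := y) (U := ⊤) trivial
  haveI : IsAffine U := hU
  haveI : IsProper (f ∣_ U) := IsZariskiLocalAtTarget.restrict (P := @IsProper) inferInstance U
  obtain ⟨y₀, rfl⟩ : ∃ y₀ : U, U.ι y₀ = y := ⟨⟨y, hyU⟩, rfl⟩
  let e := asIso (Spec.map (U.ι.residueFieldMap y₀))
  have h1 : IsPullback ((f ∣_ U).fiberι y₀ ≫ (f ⁻¹ᵁ U).ι) ((f ∣_ U).fiberToSpecResidueField y₀) f
      (e.hom ≫ Y.fromSpecResidueField (U.ι y₀)) := by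
    rw [show e.hom ≫ Y.fromSpecResidueField (U.ι y₀) = (U : Scheme.{u}).fromSpecResidueField y₀ ≫ U.ι from
      Scheme.Hom.SpecMap_residueFieldMap_fromSpecResidueField _ _]
    exact (IsPullback.of_hasPullback _ _).paste_horiz (isPullback_morphismRestrict f U).flip
  have h2 : IsPullback (f.fiberι (U.ι y₀)) (f.fiberToSpecResidueField (U.ι y₀) ≫ e.inv) f
      (e.hom ≫ Y.fromSpecResidueField (U.ι y₀)) := by
    refine (IsPullback.of_hasPullback f (Y.fromSpecResidueField (U.ι y₀))).of_iso (Iso.refl _) (Iso.refl _)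
      e.symm (Iso.refl _) ?_ ?_ ?_ ?_
    · exact (Category.comp_id _).trans (Category.id_comp _).symm
    · exact (Category.id_comp _).symm
    · simp
    · simp
  have h3 : CohB1.IsAmple ((Scheme.Modules.pullback ((f ∣_ U).fiberι y₀)).obj
      ((Scheme.Modules.pullback (f ⁻¹ᵁ U).ι).obj L)) := by
    rw [← H11Ample.isAmple_pullback_comp_iff]
    exact (isAmple_iff_of_iso (IsPullback.isoIsPullback _ _ h1 h2) _ _
      (IsPullback.isoIsPullback_hom_fst _ _ h1 h2) L).2 hy
  obtain ⟨V, hyV, hV, hVamp⟩ := exists_nhd_affine (f ∣_ U) (H11Ample.isInvertible_pullback _ hL) y₀ h3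
  rw [← H11Ample.isAmple_pullback_comp_iff] at hVamp
  refine ⟨U.ι ''ᵁ V, ⟨y₀, hyV, rfl⟩, hV.image_of_isOpenImmersion U.ι, ?_⟩
  let i := ((f ∣_ U) ⁻¹ᵁ V).ι ≫ (f ⁻¹ᵁ U).ι
  have hrange : Set.range i = Set.range (f ⁻¹ᵁ (U.ι ''ᵁ V)).ι := by
    rw [Scheme.Hom.comp_base, TopCat.coe_comp, Set.range_comp, Scheme.Opens.range_ι, Scheme.Opens.range_ι,
      ← Scheme.Hom.coe_image, image_morphismRestrict_preimage]
  exact (isAmple_iff_of_iso (IsOpenImmersion.isoOfRangeEq i (f ⁻¹ᵁ (U.ι ''ᵁ V)).ι hrange) i _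
    (IsOpenImmersion.isoOfRangeEq_hom_fac _ _ _) L).1 hVamp

end Groth.Agent.H8Props.AmpleSpread
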