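import Groth.Agent.H8Props.AmpleSpread.Main
import Groth.Agent.H8Props.Stein.Connected
import Groth.Agent.H7Lim.Basic
import Groth.Agent.S12128

/-!
# The locus of the base over which an invertible module is ample

For a proper morphism of finite presentation the set of points over which an invertible module is ample on
the fibre is a retrocompact open, whose formation commutes with base change.
-/

set_option autoImplicit false
set_option linter.style.haveILetI false
universe u

open CategoryTheory CategoryTheory.Limits AlgebraicGeometry Topology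

namespace Groth.Agent.H8Props.AmpleSpread

/-- The points over which `L` is ample on the fibre. -/
def ampleLocus {X Y : Scheme.{u}} (f : X ⟶ Y) (L : X.Modules) : Set Y :=
  {y | CohB1.IsAmple ((Scheme.Modules.pullback (f.fiberι y)).obj L)}

theorem ampleLocus_congr {X Y : Scheme.{u}} (f : X ⟶ Y) {L L' : X.Modules} (e : L ≅ L') :
    ampleLocus f L = ampleLocus f L' :=
  Set.ext fun _ => ⟨H11Ample.isAmple_of_iso ((Scheme.Modules.pullback _).mapIso e),
    H11Ample.isAmple_of_iso ((Scheme.Modules.pullback _).mapIso e.symm)⟩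

/-- The formation of the locus commutes with base change. -/
theorem mem_ampleLocus_iff {X X' Y Y' : Scheme.{u}} {f : X ⟶ Y} {f' : X' ⟶ Y'} {h : X' ⟶ X} {β : Y' ⟶ Y}
    (H : IsPullback h f' f β) [IsProper f] {L : X.Modules} (hL : PicF.IsInvertible L) (y' : Y') :
    y' ∈ ampleLocus f' ((Scheme.Modules.pullback h).obj L) ↔ β y' ∈ ampleLocus f L := by
  let ρ := β.residueFieldMap y'
  have ht : Spec.map ρ ≫ Y.fromSpecResidueField (β y') = Y'.fromSpecResidueField y' ≫ β :=
    Scheme.Hom.SpecMap_residueFieldMap_fromSpecResidueField β y'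
  have h1 : IsPullback (f'.fiberι y' ≫ h) (f'.fiberToSpecResidueField y') f
      (Y'.fromSpecResidueField y' ≫ β) := (IsPullback.of_hasPullback _ _).paste_horiz H
  constructor
  · intro ha
    refine isAmple_fibre_stage f hL (K := Y'.residueField y') (Iso.refl _) (Y'.fromSpecResidueField y' ≫ β)
      (β y') ρ (by rw [Iso.refl_hom, Category.id_comp, ht]) ?_
    exact (isAmple_iff_of_iso h1.isoPullback (f'.fiberι y' ≫ h) _ h1.isoPullback_hom_fst L).1
      ((H11Ample.isAmple_pullback_comp_iff _ _ _).2 ha)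
  · intro ha
    have hsq : IsPullback (f.fiberι (β y')) (f.fiberToSpecResidueField (β y')) f
        (Y.fromSpecResidueField (β y')) := IsPullback.of_hasPullback _ _
    let u : f'.fiber y' ⟶ f.fiber (β y') := hsq.lift (f'.fiberι y' ≫ h)
      (f'.fiberToSpecResidueField y' ≫ Spec.map ρ) (by rw [h1.w, Category.assoc, ht])
    have hu : u ≫ f.fiberι (β y') = f'.fiberι y' ≫ h := hsq.lift_fst _ _ _
    have h2 : IsPullback u (f'.fiberToSpecResidueField y') (f.fiberToSpecResidueField (β y')) (Spec.map ρ) := by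
      refine IsPullback.of_right ?_ (hsq.lift_snd _ _ _) hsq
      rw [hu, ht]
      exact h1
    haveI : IsAffineHom u := MorphismProperty.of_isPullback h2.flip (inferInstance : IsAffineHom (Spec.map ρ))
    refine (H11Ample.isAmple_pullback_comp_iff _ _ _).1 ?_
    rw [← hu]
    exact (H11Ample.isAmple_pullback_comp_iff _ _ _).2 (H11Ample.isAmple_pullback_of_isAffineHom u ha)

theorem preimage_ampleLocus {X X' Y Y' : Scheme.{u}} {f : X ⟶ Y} {f' : X' ⟶ Y'} {h : X' ⟶ X} {β : Y' ⟶ Y}
    (H : IsPullback h f' f β) [IsProper f] {L : X.Modules} (hL : PicF.IsInvertible L) :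
    β ⁻¹' ampleLocus f L = ampleLocus f' ((Scheme.Modules.pullback h).obj L) :=
  Set.ext fun y' => (mem_ampleLocus_iff H hL y').symm

theorem isOpen_ampleLocus {X Y : Scheme.{u}} (f : X ⟶ Y) [IsProper f] {L : X.Modules}
    (hL : PicF.IsInvertible L) : IsOpen (ampleLocus f L) := by
  refine isOpen_iff_forall_mem_open.2 fun y hy => ?_
  obtain ⟨V, hyV, hV, hamp⟩ := exists_nhd f hL y hy
  refine ⟨V, fun z hz => ?_, V.2, hyV⟩
  obtain ⟨z₀, rfl⟩ : ∃ z₀ : V, V.ι z₀ = z := ⟨⟨z, hz⟩, rfl⟩
  refine (mem_ampleLocus_iff (isPullback_morphismRestrict f V).flip hL z₀).1 ?_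
  haveI : Subsingleton (Spec ((V : Scheme.{u}).residueField z₀)) := inferInstanceAs (Subsingleton (PrimeSpectrum _))
  haveI : IsAffineHom ((f ∣_ V).fiberι z₀) :=
    MorphismProperty.pullback_fst (f ∣_ V) ((V : Scheme.{u}).fromSpecResidueField z₀)
      (haveI : IsAffine V := hV; inferInstance)
  exact H11Ample.isAmple_pullback_of_isAffineHom _ hamp

/-- The locus is quasi-compact over a limit of Noetherian schemes along affine morphisms. -/
theorem isCompact_ampleLocus_of_limit {I : Type u} [SmallCategory I] [IsCofiltered I] {D : I ⥤ Scheme.{u}}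
    {c : Cone D} (hc : IsLimit c) [∀ (i j : I) (φ : i ⟶ j), IsAffineHom (D.map φ)] [∀ i, IsNoetherian (D.obj i)]
    {X : Scheme.{u}} (f : X ⟶ c.pt) [IsProper f] [LocallyOfFinitePresentation f] {L : X.Modules}
    (hL : PicF.IsInvertible L) : IsCompact (ampleLocus f L) := by
  haveI hcp : ∀ i, CompactSpace (D.obj i) := fun i => inferInstance
  haveI hqp : ∀ i, QuasiSeparatedSpace (D.obj i) := fun i => inferInstance
  obtain ⟨i, ⟨M⟩⟩ := H7Lim.FPDescent.exists_model hc f
  haveI := M.lfp
  haveI := M.qc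
  haveI := M.qs
  haveI : CompactSpace M.P := QuasiCompact.compactSpace_of_compactSpace M.p
  haveI : QuasiSeparatedSpace M.P := quasiSeparatedSpace_of_quasiSeparated M.p
  have hp : IsProper (pullback.snd M.p (c.π.app i)) :=
    (H7Lim.prop_iff_of_isPullback (P := @IsProper) M.hpb).mp ‹IsProper f›
  obtain ⟨j, φ, hj⟩ := H7Lim.descends_isProper I D c hc i M.p inferInstance hp
  let p₁ : pullback M.p (D.map φ) ⟶ D.obj j := pullback.snd M.p (D.map φ)
  haveI : IsProper p₁ := hj
  have h₁ : IsPullback (pullback.lift M.g (f ≫ c.π.app j) (by rw [M.hpb.w, Category.assoc, c.w])) f p₁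
      (c.π.app j) := by
    refine IsPullback.of_right (h₁₂ := pullback.fst M.p (D.map φ)) (h₂₂ := D.map φ) (v₁₃ := M.p) ?_
      (pullback.lift_snd _ _ _) (IsPullback.of_hasPullback _ _)
    rw [pullback.lift_fst, c.w]
    exact M.hpb
  -- the module at a stage
  let e₀ : Over j := Over.mk (𝟙 j)
  haveI : ∀ (a b : Over j) (ψ : a ⟶ b), IsAffineHom ((H7Lim.pbDiagram D j p₁).map ψ) := fun a b ψ =>
    H7Lim.isAffineHom_pbDiagram_map D j p₁ a b ψ
  haveI : CompactSpace ((H7Lim.pbDiagram D j p₁).obj e₀) :=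
    @QuasiCompact.compactSpace_of_compactSpace _ _ (pullback.snd p₁ (D.map e₀.hom))
      (MorphismProperty.pullback_snd _ _ inferInstance) (hcp _)
  haveI : QuasiSeparatedSpace ((H7Lim.pbDiagram D j p₁).obj e₀) :=
    @quasiSeparatedSpace_of_quasiSeparated _ _ (pullback.snd p₁ (D.map e₀.hom)) (hqp _)
      (MorphismProperty.pullback_snd _ _ inferInstance)
  obtain ⟨k, -, Lk, hLk, ⟨eL⟩⟩ := H12Pic.exists_invertible_stage (H7Lim.isLimitPbCone D j p₁ hc) e₀
    (H11Ample.isInvertible_pullback h₁.isoPullback.inv hL)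
  let tk := D.map k.hom
  let fk := pullback.snd p₁ tk
  haveI : IsProper fk := MorphismProperty.pullback_snd _ _ inferInstance
  let v : pullback p₁ (c.π.app j) ⟶ pullback p₁ tk := (H7Lim.pbCone D c j p₁).π.app k
  let g := h₁.isoPullback.hom ≫ v
  have hw : c.π.app k.left ≫ tk = c.π.app j := c.w k.hom
  have hg : g ≫ pullback.fst p₁ tk = pullback.lift M.g (f ≫ c.π.app j) (by rw [M.hpb.w, Category.assoc, c.w]) := by
    rw [Category.assoc]
    exact (congrArg (h₁.isoPullback.hom ≫ ·) ((pullback.lift_fst _ _ _).trans (Category.comp_id _))).trans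
      h₁.isoPullback_hom_fst
  have hg2 : g ≫ fk = f ≫ c.π.app k.left := by
    rw [Category.assoc]
    refine (congrArg (h₁.isoPullback.hom ≫ ·) (pullback.lift_snd _ _ _)).trans ?_
    rw [h₁.isoPullback_hom_snd_assoc]
  have hsq : IsPullback g f fk (c.π.app k.left) :=
    IsPullback.of_right (by rw [hg, hw]; exact h₁) hg2 (IsPullback.of_hasPullback p₁ tk)
  let e : (Scheme.Modules.pullback g).obj Lk ≅ L :=
    ((Scheme.Modules.pullbackComp h₁.isoPullback.hom v).app Lk).symm ≪≫
      (Scheme.Modules.pullback h₁.isoPullback.hom).mapIso eL ≪≫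
      (Scheme.Modules.pullbackComp _ _).app L ≪≫
      (Scheme.Modules.pullbackCongr h₁.isoPullback.hom_inv_id).app L ≪≫ (Scheme.Modules.pullbackId X).app L
  rw [← ampleLocus_congr f e, ← preimage_ampleLocus hsq hLk]
  haveI : IsAffineHom (c.π.app k.left) := isAffineHom_π_app D c hc k.left
  exact (c.π.app k.left).isCompact_preimage (U := ⟨_, isOpen_ampleLocus fk hLk⟩)
    (TopologicalSpace.NoetherianSpace.isCompact _)

/-- Over an affine base the locus is quasi-compact. -/
theorem isCompact_ampleLocus_of_spec {R : Type u} [CommRing R] {X : Scheme.{u}}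
    (f : X ⟶ Spec (CommRingCat.of R)) [IsProper f] [LocallyOfFinitePresentation f] {L : X.Modules}
    (hL : PicF.IsInvertible L) : IsCompact (ampleLocus f L) := by
  haveI : Nonempty (Finset R) := ⟨∅⟩
  let D := (H7Lim.FPDescent.subringFunctor R).op ⋙ Scheme.Spec
  let c := H17.ConsProp.subringCone R
  haveI : ∀ (i j : (Finset R)ᵒᵖ) (φ : i ⟶ j), IsAffineHom (D.map φ) := fun i j φ =>
    inferInstanceAs (IsAffineHom (Spec.map _))
  haveI : ∀ i, IsNoetherian (D.obj i) := fun i => by
    haveI : IsNoetherianRing (Algebra.adjoin ℤ ((i.unop : Finset R) : Set R)) := by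
      haveI := (Algebra.adjoin ℤ ((i.unop : Finset R) : Set R)).fg_iff_finiteType.1 ⟨i.unop, rfl⟩
      exact Algebra.FiniteType.isNoetherianRing ℤ _
    exact inferInstanceAs (IsNoetherian (Spec (CommRingCat.of _)))
  exact @isCompact_ampleLocus_of_limit (Finset R)ᵒᵖ _ _ D c (H17.ConsProp.isLimitSubringCone R) _ _ X f
    ‹IsProper f› ‹LocallyOfFinitePresentation f› L hL

theorem isRetrocompact_ampleLocus {X Y : Scheme.{u}} (f : X ⟶ Y) [IsProper f] [LocallyOfFinitePresentation f]
    {L : X.Modules} (hL : PicF.IsInvertible L) : IsRetrocompact (ampleLocus f L) := by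
  intro U hUc hUo
  obtain ⟨s, hs, rfl⟩ := isCompact_and_isOpen_iff_finite_and_eq_biUnion_affineOpens.1 ⟨hUc, hUo⟩
  rw [Set.inter_iUnion₂]
  refine hs.isCompact_biUnion fun V _ => ?_
  haveI : IsProper (pullback.snd f V.2.fromSpec) := MorphismProperty.pullback_snd _ _ inferInstance
  haveI : LocallyOfFinitePresentation (pullback.snd f V.2.fromSpec) := MorphismProperty.pullback_snd _ _ inferInstance
  have h := (isCompact_ampleLocus_of_spec (pullback.snd f V.2.fromSpec)
    (H11Ample.isInvertible_pullback (pullback.fst f V.2.fromSpec) hL)).image V.2.fromSpec.continuous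
  rw [← preimage_ampleLocus (IsPullback.of_hasPullback f V.2.fromSpec) hL, Set.image_preimage_eq_inter_range,
    V.2.range_fromSpec] at h
  exact h

end Groth.Agent.H8Props.AmpleSpread
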