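import Groth.Agent.H7Lim.AmpleDescent
import Groth.Agent.H7Lim.Basic
import Groth.Agent.H11Ample.AmpleOn
import Groth.Agent.H11Ample.Converse

/-!
# Ampleness descends to a stage of a limit over the base
-/

set_option autoImplicit false
set_option linter.style.haveILetI false
universe u

open CategoryTheory CategoryTheory.Limits AlgebraicGeometry

namespace Groth.Agent.H8Props.AmpleSpread

theorem isAmple_iff_of_iso {A B X : Scheme.{u}} (e : A ≅ B) (g : A ⟶ X) (g' : B ⟶ X) (h : e.hom ≫ g' = g)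
    (L : X.Modules) :
    CohB1.IsAmple ((Scheme.Modules.pullback g).obj L) ↔ CohB1.IsAmple ((Scheme.Modules.pullback g').obj L) := by
  subst h
  rw [H11Ample.isAmple_pullback_comp_iff]
  exact H11Ample.isAmple_pullback_iso_iff _ _

variable {I : Type u} [SmallCategory I] [IsCofiltered I] {D : I ⥤ Scheme.{u}} {c : Cone D}
  [∀ (i j : I) (f : i ⟶ j), IsAffineHom (D.map f)] [∀ i, CompactSpace (D.obj i)]
  [∀ i, QuasiSeparatedSpace (D.obj i)]

/-- Ampleness on a scheme over the base descends to a stage. -/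
theorem exists_isAmple_of_base (hc : IsLimit c) {X S : Scheme.{u}} (p : X ⟶ S) [QuasiCompact p]
    [QuasiSeparated p] {L : X.Modules} (hL : PicF.IsInvertible L)
    {i₀ : I} (st : D.obj i₀ ⟶ S) (t : c.pt ⟶ S) (hst : c.π.app i₀ ≫ st = t)
    {XP : Scheme.{u}} {q : XP ⟶ X} {pP : XP ⟶ c.pt} (hP : IsPullback q pP p t)
    (h : CohB1.IsAmple ((Scheme.Modules.pullback q).obj L)) :
    ∃ (l : I) (φ : l ⟶ i₀), CohB1.IsAmple ((Scheme.Modules.pullback (pullback.fst p (D.map φ ≫ st))).obj L) := by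
  let a : pullback p st ⟶ D.obj i₀ := pullback.snd p st
  haveI : QuasiCompact a := MorphismProperty.pullback_snd _ _ ‹QuasiCompact p›
  haveI : QuasiSeparated a := MorphismProperty.pullback_snd _ _ ‹QuasiSeparated p›
  haveI : ∀ {j l : Over i₀} (f : j ⟶ l), IsAffineHom ((H7Lim.pbDiagram D i₀ a).map f) := fun {j l} f =>
    H7Lim.isAffineHom_pbDiagram_map D i₀ a j l f
  let k₀ : Over i₀ := Over.mk (𝟙 i₀)
  haveI : CompactSpace ((H7Lim.pbDiagram D i₀ a).obj k₀) := by
    haveI : QuasiCompact (pullback.snd a (D.map k₀.hom)) := MorphismProperty.pullback_snd _ _ ‹QuasiCompact a›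
    exact QuasiCompact.compactSpace_of_compactSpace (pullback.snd a (D.map k₀.hom))
  haveI : QuasiSeparatedSpace ((H7Lim.pbDiagram D i₀ a).obj k₀) := by
    haveI : QuasiSeparated (pullback.snd a (D.map k₀.hom)) := MorphismProperty.pullback_snd _ _ ‹QuasiSeparated a›
    show QuasiSeparatedSpace ↥(pullback a (D.map k₀.hom))
    exact quasiSeparatedSpace_of_quasiSeparated (pullback.snd a (D.map k₀.hom))
  let q₀ : (H7Lim.pbDiagram D i₀ a).obj k₀ ⟶ X := (H7Lim.pbFst D i₀ a).app k₀ ≫ pullback.fst p st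
  have hq₀ : (H7Lim.pbCone D c i₀ a).π.app k₀ ≫ q₀ = pullback.fst a (c.π.app i₀) ≫ pullback.fst p st := by
    simp only [q₀, H7Lim.pbCone_π_app, H7Lim.pbFst_app]
    erw [pullback.lift_fst_assoc, Category.comp_id]
    rfl
  have hbig : IsPullback (pullback.fst a (c.π.app i₀) ≫ pullback.fst p st) (pullback.snd a (c.π.app i₀)) p t :=
    hst ▸ (IsPullback.of_hasPullback a (c.π.app i₀)).paste_horiz (IsPullback.of_hasPullback p st)
  have h0 : CohB1.IsAmple ((Scheme.Modules.pullback ((H7Lim.pbCone D c i₀ a).π.app k₀)).obj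
      ((Scheme.Modules.pullback q₀).obj L)) := by
    rw [← H11Ample.isAmple_pullback_comp_iff, hq₀]
    exact (isAmple_iff_of_iso (IsPullback.isoIsPullback X c.pt hbig hP) _ _
      (IsPullback.isoIsPullback_hom_fst X c.pt hbig hP) L).2 h
  obtain ⟨l, ψ, hl⟩ := H7Lim.AmpleDescent.exists_isAmple_stage (H7Lim.isLimitPbCone D i₀ a hc)
    (H11Ample.isInvertible_pullback q₀ hL) h0
  refine ⟨l.left, l.hom, ?_⟩
  rw [← H11Ample.isAmple_pullback_comp_iff] at hl
  have hql : (H7Lim.pbDiagram D i₀ a).map ψ ≫ q₀ = pullback.fst a (D.map l.hom) ≫ pullback.fst p st := by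
    simp only [q₀, H7Lim.pbDiagram_map, H7Lim.pbFst_app]
    erw [pullback.lift_fst_assoc, Category.comp_id]
    rfl
  rw [hql] at hl
  have hl' : IsPullback (pullback.fst a (D.map l.hom) ≫ pullback.fst p st) (pullback.snd a (D.map l.hom)) p
      (D.map l.hom ≫ st) :=
    (IsPullback.of_hasPullback a (D.map l.hom)).paste_horiz (IsPullback.of_hasPullback p st)
  exact (isAmple_iff_of_iso hl'.isoPullback _ _ hl'.isoPullback_hom_fst L).1 hl

end Groth.Agent.H8Props.AmpleSpread
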